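import Groth.Prelude.Def_W4c5spincurvestfNode
import Mathlib

universe u
namespace Groth.Agent.SpinNodeLib.Power
open SpinCurv MvPowerSeries

variable {R : Type u} [CommRing R] {I : Ideal R} {π : R}

/-- `π`-adic sums -/
lemma exists_sum [IsAdicComplete I R] (hπ : π ∈ I) :
    ∃ L : (ℕ → R) → R, ∀ c, L c = c 0 + π * L (fun k => c (k + 1)) := by
  have pre : ∀ c : ℕ → R, ∃ l : R, ∀ n, (∑ i ∈ Finset.range n, π ^ i * c i) - l ∈ I ^ n := by
    intro c
    obtain ⟨l, hl⟩ := IsPrecomplete.prec (inferInstance : IsPrecomplete I R)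
      (f := fun n => ∑ i ∈ Finset.range n, π ^ i * c i) (fun {m n} hmn => by
        rw [SModEq.sub_mem, smul_eq_mul, Ideal.mul_top, ← neg_sub,
          ← Finset.sum_Ico_eq_sub _ hmn]
        refine neg_mem (sum_mem fun i hi => Ideal.mul_mem_right _ _ ?_)
        exact Ideal.pow_le_pow_right (Finset.mem_Ico.1 hi).1 (Ideal.pow_mem_pow hπ i))
    exact ⟨l, fun n => by simpa [SModEq.sub_mem] using hl n⟩
  choose L hL using pre
  refine ⟨L, fun c => ?_⟩
  rw [← sub_eq_zero]
  refine IsHausdorff.haus (inferInstance : IsHausdorff I R) _ fun n => ?_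
  rw [SModEq.zero, smul_eq_mul, Ideal.mul_top]
  have h1 := hL c (n + 1)
  have h2 := hL (fun k => c (k + 1)) n
  rw [Finset.sum_range_succ'] at h1
  have h3 : L c - (c 0 + π * L (fun k => c (k + 1))) =
      π * ((∑ i ∈ Finset.range n, π ^ i * c (i + 1)) - L (fun k => c (k + 1))) -
        ((∑ i ∈ Finset.range n, π ^ (i + 1) * c (i + 1)) + π ^ 0 * c 0 - L c) := by
    simp only [mul_sub, Finset.mul_sum, ← mul_assoc, ← pow_succ', pow_zero, one_mul]; ring
  rw [h3]
  exact sub_mem (Ideal.mul_mem_left _ _ h2) (Ideal.pow_le_pow_right (Nat.le_succ n) h1)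

lemma zero_of_rec [IsAdicComplete I R] (hπ : π ∈ I) (d : ℕ → R)
    (h : ∀ k, d k = π * d (k + 1)) : d 0 = 0 := by
  have h' : ∀ n k, d k = π ^ n * d (k + n) := by
    intro n
    induction n with
    | zero => simp
    | succ n ih => intro k; rw [ih, h (k + n), pow_succ]; ring_nf
  refine IsHausdorff.haus (inferInstance : IsHausdorff I R) _ fun n => ?_
  rw [SModEq.zero, smul_eq_mul, Ideal.mul_top, h' n 0]
  exact Ideal.mul_mem_right _ _ (Ideal.pow_mem_pow hπ n)

noncomputable def ex (i j : ℕ) : Fin 2 →₀ ℕ := Finsupp.single 0 i + Finsupp.single 1 j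

@[simp] lemma ex_zero (i j : ℕ) : ex i j 0 = i := by simp [ex]
@[simp] lemma ex_one (i j : ℕ) : ex i j 1 = j := by simp [ex]
lemma ex_eta (d : Fin 2 →₀ ℕ) : ex (d 0) (d 1) = d := by
  ext i; fin_cases i <;> simp

local notation "S" => MvPowerSeries (Fin 2) R

lemma ext' {f g : S} (h : ∀ i j, coeff (ex i j) f = coeff (ex i j) g) : f = g := by
  ext d; rw [← ex_eta d]; exact h _ _

noncomputable def ofFun (F : ℕ → ℕ → R) : S := fun d => F (d 0) (d 1)

@[simp] lemma coeff_ofFun (F : ℕ → ℕ → R) (i j : ℕ) : coeff (ex i j) (ofFun F) = F i j := by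
  change F (ex i j 0) (ex i j 1) = _; simp

lemma coeff_X0_mul (f : S) (i j : ℕ) :
    coeff (ex i j) (X 0 * f) = if i = 0 then 0 else coeff (ex (i - 1) j) f := by
  classical
  rw [X, coeff_monomial_mul]
  rcases i with _ | i
  · rw [if_pos rfl, if_neg]; intro h; simpa using h 0
  · rw [if_neg (Nat.succ_ne_zero i), if_pos, one_mul]
    · congr 2; ext k; fin_cases k <;> simp
    · intro k; fin_cases k <;> simp

lemma coeff_X1_mul (f : S) (i j : ℕ) :
    coeff (ex i j) (X 1 * f) = if j = 0 then 0 else coeff (ex i (j - 1)) f := by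
  classical
  rw [X, coeff_monomial_mul]
  rcases j with _ | j
  · rw [if_pos rfl, if_neg]; intro h; simpa using h 1
  · rw [if_neg (Nat.succ_ne_zero j), if_pos, one_mul]
    · congr 2; ext k; fin_cases k <;> simp
    · intro k; fin_cases k <;> simp

lemma coeff_C_mul' (r : R) (f : S) (i j : ℕ) :
    coeff (ex i j) (C r * f) = r * coeff (ex i j) f := coeff_C_mul _ _ _

lemma coeff_toMv0 (f : PowerSeries R) (i j : ℕ) :
    coeff (ex i j) (PowerSeries.toMvPowerSeries (σ := Fin 2) 0 f) =
      if j = 0 then PowerSeries.coeff i f else 0 := by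
  classical
  rw [PowerSeries.toMvPowerSeries_apply]
  rcases j with _ | j
  · rw [if_pos rfl]
    have : ex i 0 = Finsupp.embDomain (Function.Embedding.punit (0 : Fin 2))
        (Finsupp.single () i) := by
      rw [Finsupp.embDomain_single]; simp [ex, Function.Embedding.punit]
    rw [this]
    exact coeff_embDomain_rename (R := R) (Function.Embedding.punit (0 : Fin 2)) f _
  · rw [if_neg (Nat.succ_ne_zero j)]
    refine coeff_rename_eq_zero _ _ ?_
    rintro ⟨x, hx⟩
    have := DFunLike.congr_fun hx 1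
    rw [Finsupp.unique_single x, Finsupp.mapDomain_single] at this
    simp at this

lemma coeff_toMv1 (f : PowerSeries R) (i j : ℕ) :
    coeff (ex i j) (PowerSeries.toMvPowerSeries (σ := Fin 2) 1 f) =
      if i = 0 then PowerSeries.coeff j f else 0 := by
  classical
  rw [PowerSeries.toMvPowerSeries_apply]
  rcases i with _ | i
  · rw [if_pos rfl]
    have : ex 0 j = Finsupp.embDomain (Function.Embedding.punit (1 : Fin 2))
        (Finsupp.single () j) := by
      rw [Finsupp.embDomain_single]; simp [ex, Function.Embedding.punit]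
    rw [this]
    exact coeff_embDomain_rename (R := R) (Function.Embedding.punit (1 : Fin 2)) f _
  · rw [if_neg (Nat.succ_ne_zero i)]
    refine coeff_rename_eq_zero _ _ ?_
    rintro ⟨x, hx⟩
    have := DFunLike.congr_fun hx 0
    rw [Finsupp.unique_single x, Finsupp.mapDomain_single] at this
    simp at this

/-- axis-supported series in the ideal `(xy - π)` vanish -/
lemma axis_zero [IsAdicComplete I R] (hπ : π ∈ I) (h : S)
    (hsupp : ∀ i j, coeff (ex (i + 1) (j + 1)) h = 0)
    (hmem : h ∈ Ideal.span {(X 0 * X 1 - C π : S)}) : h = 0 := by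
  obtain ⟨r, rfl⟩ := Ideal.mem_span_singleton'.1 hmem
  have hr : r = 0 := by
    refine ext' fun i j => ?_
    rw [map_zero]
    have := zero_of_rec hπ (fun k => coeff (ex (i + k) (j + k)) r) (fun k => by
      have h1 := hsupp (i + k) (j + k)
      rw [mul_comm r, sub_mul, map_sub, mul_assoc, coeff_X0_mul, coeff_X1_mul, coeff_C_mul',
        sub_eq_zero] at h1
      simpa [← add_assoc] using h1)
    simpa using this
  simp [hr]

variable [IsLocalRing R]

local notation "m" => IsLocalRing.maximalIdeal R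

section
variable {p q : R}

local notation "A" => NodeRing R (p * q)

/-- the two kernel columns -/
noncomputable def K (p q : R) : Submodule (NodeRing R (p * q)) (Fin 2 → NodeRing R (p * q)) :=
  Submodule.span _
    {![algebraMap R (NodeRing R (p * q)) p, -NodeRing.x R (p * q)],
     ![NodeRing.y R (p * q), -algebraMap R (NodeRing R (p * q)) q]}

lemma xy : NodeRing.x R π * NodeRing.y R π = algebraMap R _ π := by
  change Ideal.Quotient.mk _ _ * Ideal.Quotient.mk _ _ = Ideal.Quotient.mk _ (C π)
  rw [← map_mul]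
  exact Ideal.Quotient.eq.2 (Ideal.subset_span rfl)

lemma K_le : K p q ≤ LinearMap.ker (Matrix.mulVecLin (nodeAlpha R p q)) := by
  rw [K, Submodule.span_le]
  have hxy : NodeRing.x R (p * q) * NodeRing.y R (p * q) =
      algebraMap R A p * algebraMap R A q := by rw [xy, map_mul]
  rintro v (rfl | rfl) <;>
  · simp only [SetLike.mem_coe, LinearMap.mem_ker, Matrix.mulVecLin_apply, nodeAlpha]
    ext i; fin_cases i <;> simp [Matrix.mulVec, dotProduct, Fin.sum_univ_two] <;>
      first | ring1 | linear_combination hxy | linear_combination -hxy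

lemma inj [IsAdicComplete m R] (hp : p ∈ m) (f g : PowerSeries R)
    (h : Matrix.mulVec (nodeAlpha R p q)
      ![NodeRing.ofX R (p * q) f, NodeRing.ofY R (p * q) g] = 0) : f = 0 ∧ g = 0 := by
  have hπ : p * q ∈ m := Ideal.mul_mem_right _ _ hp
  set F : S := PowerSeries.toMvPowerSeries (σ := Fin 2) 0 f with hF
  set G : S := PowerSeries.toMvPowerSeries (σ := Fin 2) 1 g with hG
  have h0 : X 0 * F + C p * G = 0 := by
    refine axis_zero hπ _ (fun i j => ?_) (Ideal.Quotient.eq_zero_iff_mem.1 ?_)
    · simp [coeff_X0_mul, coeff_C_mul', hF, hG, coeff_toMv0, coeff_toMv1]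
    · have := congrFun h 0
      simp [nodeAlpha, Matrix.mulVec, dotProduct, Fin.sum_univ_two] at this
      rw [map_add (Ideal.Quotient.mk _), map_mul (Ideal.Quotient.mk _), map_mul (Ideal.Quotient.mk _)]
      exact this
  have h1 : C q * F + X 1 * G = 0 := by
    refine axis_zero hπ _ (fun i j => ?_) (Ideal.Quotient.eq_zero_iff_mem.1 ?_)
    · simp [coeff_X1_mul, coeff_C_mul', hF, hG, coeff_toMv0, coeff_toMv1]
    · have := congrFun h 1
      simp [nodeAlpha, Matrix.mulVec, dotProduct, Fin.sum_univ_two] at this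
      rw [map_add (Ideal.Quotient.mk _), map_mul (Ideal.Quotient.mk _), map_mul (Ideal.Quotient.mk _)]
      exact this
  constructor
  · ext i
    have := congrArg (coeff (ex (i + 1) 0)) h0
    simpa [coeff_X0_mul, coeff_C_mul', hF, hG, coeff_toMv0, coeff_toMv1] using this
  · ext j
    have := congrArg (coeff (ex 0 (j + 1))) h1
    simpa [coeff_X1_mul, coeff_C_mul', hF, hG, coeff_toMv0, coeff_toMv1] using this

lemma decomp [IsAdicComplete m R] (hp : p ∈ m) (v : Fin 2 → A) :
    ∃ f g : PowerSeries R, v - ![NodeRing.ofX R (p * q) f, NodeRing.ofY R (p * q) g] ∈ K p q := by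
  have hπ : p * q ∈ m := Ideal.mul_mem_right _ _ hp
  obtain ⟨L, hL⟩ := exists_sum (I := m) hπ
  obtain ⟨a, ha⟩ := Ideal.Quotient.mk_surjective (v 0)
  obtain ⟨b, hb⟩ := Ideal.Quotient.mk_surjective (v 1)
  let c : ℕ → ℕ → R := fun i j => coeff (ex (i + 1) j) b + q * coeff (ex (i + 1) (j + 1)) a
  let U : ℕ → ℕ → R := fun i j => -L (fun k => c (i + k) (j + k))
  have hU : ∀ i j, U i j = -c i j + p * q * U (i + 1) (j + 1) := by
    intro i j
    simp only [U]
    rw [hL]
    simp [add_comm, add_left_comm]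
  let u : S := ofFun U
  let w : S := ofFun fun i j => coeff (ex i (j + 1)) a - p * U i (j + 1)
  let f : PowerSeries R := PowerSeries.mk fun i => coeff (ex i 0) a - p * U i 0
  let g : PowerSeries R := PowerSeries.mk fun j =>
    coeff (ex 0 j) b + q * (coeff (ex 0 (j + 1)) a - p * U 0 (j + 1))
  have e0 : a = PowerSeries.toMvPowerSeries (σ := Fin 2) 0 f + C p * u + X 1 * w := by
    refine ext' fun i j => ?_
    rcases j with _ | j <;> simp [coeff_toMv0, coeff_C_mul', coeff_X1_mul, f, u, w]
  have e1 : b = PowerSeries.toMvPowerSeries (σ := Fin 2) 1 g - X 0 * u - C q * w := by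
    refine ext' fun i j => ?_
    rcases i with _ | i
    · simp [coeff_toMv1, coeff_C_mul', coeff_X0_mul, g, u, w]
    · simp [coeff_toMv1, coeff_C_mul', coeff_X0_mul, g, u, w]
      rw [hU i j]; simp only [c]; ring
  refine ⟨f, g, ?_⟩
  let mk' := Ideal.Quotient.mk (Ideal.span {(X 0 * X 1 - C (p * q) : S)})
  have : v - ![NodeRing.ofX R (p * q) f, NodeRing.ofY R (p * q) g] =
      mk' u • ![algebraMap R A p, -NodeRing.x R (p * q)] +
      mk' w • ![NodeRing.y R (p * q), -algebraMap R A q] := by
    have a0 := congrArg mk' e0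
    have a1 := congrArg mk' e1
    rw [show mk' a = v 0 from ha] at a0
    rw [show mk' b = v 1 from hb] at a1
    simp only [map_add mk', map_sub mk', map_mul mk'] at a0 a1
    ext i; fin_cases i
    · simp only [Fin.zero_eta, Pi.sub_apply, Pi.add_apply, Pi.smul_apply, smul_eq_mul,
        Matrix.cons_val_zero]
      rw [a0]
      change _ = _ * mk' (C p) + _
      ring
    · simp only [Fin.mk_one, Pi.sub_apply, Pi.add_apply, Pi.smul_apply, smul_eq_mul,
        Matrix.cons_val_one, Matrix.cons_val_fin_one]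
      rw [a1]
      change _ = _ + _ * -mk' (C q)
      ring
  rw [this]
  exact add_mem (Submodule.smul_mem _ _ (Submodule.subset_span (Set.mem_insert _ _)))
    (Submodule.smul_mem _ _ (Submodule.subset_span (Set.mem_insert_of_mem _ rfl)))

lemma ker_eq [IsAdicComplete m R] (hp : p ∈ m) :
    LinearMap.ker (Matrix.mulVecLin (nodeAlpha R p q)) = K p q := by
  refine le_antisymm (fun v hv => ?_) K_le
  obtain ⟨f, g, h⟩ := decomp (q := q) hp v
  have h' := K_le h
  rw [LinearMap.mem_ker, map_sub, LinearMap.mem_ker.1 hv, zero_sub, neg_eq_zero] at h'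
  obtain ⟨rfl, rfl⟩ := inj hp f g h'
  have h0 : (![NodeRing.ofX R (p * q) 0, NodeRing.ofY R (p * q) 0] : Fin 2 → A) = 0 := by
    ext i; fin_cases i <;> simp [NodeRing.ofX, NodeRing.ofY]
  rwa [h0, sub_zero] at h

lemma inj_range [IsAdicComplete m R] (hp : p ∈ m) :
    Function.Injective (fun fg : PowerSeries R × PowerSeries R =>
        Matrix.mulVec (nodeAlpha R p q)
          ![NodeRing.ofX R (p * q) fg.1, NodeRing.ofY R (p * q) fg.2]) ∧
    Set.range (fun fg : PowerSeries R × PowerSeries R =>
        Matrix.mulVec (nodeAlpha R p q)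
          ![NodeRing.ofX R (p * q) fg.1, NodeRing.ofY R (p * q) fg.2]) =
      Set.range (Matrix.mulVec (nodeAlpha R p q)) := by
  refine ⟨fun a b h => ?_, Set.Subset.antisymm (Set.range_subset_iff.2 fun fg => ⟨_, rfl⟩) ?_⟩
  · dsimp only at h
    have := inj hp (q := q) (a.1 - b.1) (a.2 - b.2) (by
      rw [← sub_eq_zero.2 h, ← Matrix.mulVec_sub]
      congr 1; ext i; fin_cases i <;> simp [NodeRing.ofX, NodeRing.ofY, map_sub])
    exact Prod.ext (sub_eq_zero.1 this.1) (sub_eq_zero.1 this.2)
  · rintro _ ⟨v, rfl⟩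
    obtain ⟨f, g, h⟩ := decomp (q := q) hp v
    refine ⟨(f, g), ?_⟩
    have := K_le h
    rw [LinearMap.mem_ker, map_sub, sub_eq_zero] at this
    exact this.symm

end
end Groth.Agent.SpinNodeLib.Power
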