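import Groth.Agent.SpinNodeLib.Poly

universe u
namespace Groth.Agent.SpinNodeLib
open SpinCurv

lemma free_sections (R : Type u) [CommRing R] (p q : R)
    (gU : PolyNodeRing R q →ₐ[R] LaurentPolynomial R)
    (hgUs : gU (PolyNodeRing.x R q) = LaurentPolynomial.T 1)
    (hgUy : gU (PolyNodeRing.y R q) = LaurentPolynomial.C q * LaurentPolynomial.T (-1))
    (gV : PolyNodeRing R p →ₐ[R] LaurentPolynomial R)
    (hgVt : gV (PolyNodeRing.x R p) = LaurentPolynomial.T (-1))
    (hgVx : gV (PolyNodeRing.y R p) = LaurentPolynomial.C p * LaurentPolynomial.T 1)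
    (n : ℤ) (hn : -1 ≤ n) :
    Module.Free R (LinearMap.ker
      (gU.toLinearMap.comp (LinearMap.fst R (PolyNodeRing R q) (PolyNodeRing R p)) -
        (LinearMap.mulLeft R (LaurentPolynomial.T n)).comp
          (gV.toLinearMap.comp (LinearMap.snd R (PolyNodeRing R q) (PolyNodeRing R p))))) := by
  refine Module.Free.of_equiv (LinearEquiv.ofBijective ((Ψ p q n).codRestrict _ ?_) ⟨?_, ?_⟩)
  · intro c
    simpa [LinearMap.mem_ker, sub_eq_zero] using Ψ_mem gU hgUs hgUy gV hgVt hgVx (n := n) c
  · intro a b h; exact Ψ_inj hn (congrArg Subtype.val h)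
  · rintro ⟨⟨g, f⟩, h⟩
    obtain ⟨c, hc⟩ := Ψ_surj gU hgUs hgUy gV hgVt hgVx hn g f (by
      simpa [LinearMap.mem_ker, sub_eq_zero] using h)
    exact ⟨c, Subtype.ext hc⟩

lemma twistOne_torsion_free (k : Type u) [Field k]
    (gU : PolyNodeRing k 0 →ₐ[k] LaurentPolynomial k)
    (hgUs : gU (PolyNodeRing.x k 0) = LaurentPolynomial.T 1) (hgUy : gU (PolyNodeRing.y k 0) = 0)
    (gV : PolyNodeRing k 0 →ₐ[k] LaurentPolynomial k)
    (hgVt : gV (PolyNodeRing.x k 0) = LaurentPolynomial.T (-1)) (hgVx : gV (PolyNodeRing.y k 0) = 0)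
    (g f : PolyNodeRing k 0) (hsec : gU g = LaurentPolynomial.T 1 * gV f)
    (hg : PolyNodeRing.y k 0 * g = 0) (hf : PolyNodeRing.y k 0 * f = 0) : g = 0 ∧ f = 0 := by
  have hy : ∀ a : ℤ →₀ k, PolyNodeRing.y k 0 * Δ 0 a = 0 → ∀ j ≤ 0, a j = 0 := by
    intro a ha j hj
    have : (basis (0:k)).repr (PolyNodeRing.y k 0 * Δ 0 a) (j - 1) = a j := by
      clear ha
      induction a using Finsupp.induction_linear with
      | zero => simp
      | add c d hc hd => simp [mul_add, hc, hd]
      | single m r =>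
        rw [Δ_single, mul_smul_comm, y_mul_δ, map_smul, map_smul, ← basis_apply,
          Module.Basis.repr_self, Finsupp.smul_single, Finsupp.smul_single]
        by_cases hm : m = j
        · subst hm
          rw [w_of_nonneg (Int.sign_nonneg_iff.2 (by omega : 0 ≤ -m))]
          simp
        · simp [Finsupp.single_eq_of_ne' (by omega : m - 1 ≠ j - 1), Finsupp.single_eq_of_ne' hm]
    rw [← this, ha]; simp
  obtain ⟨a, rfl⟩ := Δ_surj g
  obtain ⟨b, rfl⟩ := Δ_surj f
  have h := coeff_eq gU hgUs (by simpa using hgUy) gV hgVt (by simpa using hgVx) a b hsec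
  have ha : a = 0 := by
    ext m
    by_cases hm : m ≤ 0
    · exact hy a hg m hm
    · have := h m
      rwa [w_of_nonneg (by omega : 0 ≤ m), one_mul, hy b hf (1 - m) (by omega), mul_zero] at this
  have hb : b = 0 := by
    ext j
    by_cases hj : j ≤ 0
    · exact hy b hf j hj
    · have := h (1 - j)
      rw [sub_sub_cancel, ha, w_of_nonneg (by omega : 0 ≤ j), one_mul] at this
      simpa using this.symm
  simp [ha, hb]

section
variable {R : Type u} [CommRing R] {p q : R}
    (rU : PolyNodeRing R (p * q) →ₐ[R] PolyNodeRing R q)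
    (hrUx : rU (PolyNodeRing.x R (p * q)) = algebraMap R _ p * PolyNodeRing.x R q)
    (hrUy : rU (PolyNodeRing.y R (p * q)) = PolyNodeRing.y R q)
    (rV : PolyNodeRing R (p * q) →ₐ[R] PolyNodeRing R p)
    (hrVx : rV (PolyNodeRing.x R (p * q)) = PolyNodeRing.y R p)
    (hrVy : rV (PolyNodeRing.y R (p * q)) = algebraMap R _ q * PolyNodeRing.x R p)
    (n : ℕ)

noncomputable def Φ : (Fin (n + 1) → PolyNodeRing R (p * q)) →ₗ[R]
    PolyNodeRing R q × PolyNodeRing R p :=
  LinearMap.prod
    (∑ i : Fin (n + 1), (LinearMap.mulRight R (PolyNodeRing.x R q ^ (n - (i : ℕ)))).comp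
      (rU.toLinearMap.comp (LinearMap.proj i)))
    (∑ i : Fin (n + 1), (LinearMap.mulRight R (PolyNodeRing.x R p ^ (i : ℕ))).comp
      (rV.toLinearMap.comp (LinearMap.proj i)))

lemma Φ_apply (F : Fin (n + 1) → PolyNodeRing R (p * q)) :
    Φ rU rV n F = (∑ i : Fin (n + 1), rU (F i) * PolyNodeRing.x R q ^ (n - (i : ℕ)),
      ∑ i : Fin (n + 1), rV (F i) * PolyNodeRing.x R p ^ (i : ℕ)) := by
  simp [Φ]

lemma Φ_smul (a : PolyNodeRing R (p * q)) (F : Fin (n + 1) → PolyNodeRing R (p * q)) :
    Φ rU rV n (a • F) = (rU a * (Φ rU rV n F).1, rV a * (Φ rU rV n F).2) := by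
  simp [Φ_apply, Finset.mul_sum, mul_assoc]

lemma Φ_single (i : Fin (n + 1)) (a : PolyNodeRing R (p * q)) :
    Φ rU rV n (Pi.single i a) =
      (rU a * PolyNodeRing.x R q ^ (n - (i : ℕ)), rV a * PolyNodeRing.x R p ^ (i : ℕ)) := by
  rw [Φ_apply]
  congr 1 <;>
  · rw [Finset.sum_eq_single i (fun j _ hj => by simp [hj]) (by simp)]
    simp

/-- index of the preferred preimage of the degree `m` section -/
def idx (m : ℤ) : Fin (n + 1) := ⟨((n : ℤ) - m).toNat ⊓ n, by omega⟩

noncomputable def σ : (ℤ →₀ R) →ₗ[R] (Fin (n + 1) → PolyNodeRing R (p * q)) :=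
  Finsupp.linearCombination R fun m =>
    Pi.single (idx n m) (δ (p * q) (m - n + (idx n m : ℕ)))

include hrUx hrUy hrVx hrVy

lemma rU_δ (k : ℤ) : rU (δ (p * q) k) = w p (-k) • δ q k := by
  rw [δ, δ, map_mul, map_pow, map_pow, hrUx, hrUy, smul_eq]
  simp [w, mul_pow, mul_assoc]

lemma rV_δ (k : ℤ) : rV (δ (p * q) k) = w q k • δ p (-k) := by
  rw [δ, δ, map_mul, map_pow, map_pow, hrVx, hrVy, smul_eq, neg_neg]
  simp [w, mul_pow]; ring

lemma Φ_σ (c : ℤ →₀ R) : Φ rU rV n (σ n c) = Ψ p q n c := by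
  induction c using Finsupp.induction_linear with
  | zero => simp
  | add c d hc hd => simp [hc, hd]
  | single m r =>
    simp only [σ, Ψ, Finsupp.linearCombination_single, map_smul, Φ_single]
    congr 1
    rw [rU_δ rU hrUx hrUy rV hrVx hrVy, rV_δ rU hrUx hrUy rV hrVx hrVy, smul_mul_assoc,
      smul_mul_assoc]
    have hi : ((idx n m : Fin (n+1)) : ℕ) = ((n : ℤ) - m).toNat ⊓ n := rfl
    generalize ((idx n m : Fin (n+1)) : ℕ) = i at *
    have aU : δ q (m - n + i) * PolyNodeRing.x R q ^ (n - i) = δ q m := by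
      rw [δ, δ, mul_right_comm, ← pow_add]
      rcases le_or_gt 0 m with h | h
      · congr 2 <;> omega
      · congr 2 <;> omega
    have aV : δ p (-(m - n + i)) * PolyNodeRing.x R p ^ i = δ p (n - m) := by
      rw [δ, δ, mul_right_comm, ← pow_add]
      rcases le_or_gt m n with h | h
      · congr 2 <;> omega
      · congr 2 <;> omega
    have bU : w p (-(m - n + i)) = w p (n - m) := by
      simp only [w]; congr 1; omega
    have bV : w q (m - n + i) = w q m := by
      simp only [w]; congr 1; omega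
    rw [aU, aV, bU, bV]

local notation "A" => PolyNodeRing R (p * q)

omit hrUx hrUy hrVx hrVy in
/-- the A-span of the relations -/
noncomputable def rels : Submodule A (Fin (n + 1) → A) :=
  Submodule.span A
    (Set.range (fun i : Fin n =>
        (Pi.single (Fin.castSucc i) (algebraMap R A p) -
          Pi.single (Fin.succ i) (PolyNodeRing.x R (p * q)) : Fin (n + 1) → A)) ∪
     Set.range (fun i : Fin n =>
        (Pi.single (Fin.castSucc i) (PolyNodeRing.y R (p * q)) -
          Pi.single (Fin.succ i) (algebraMap R A q) : Fin (n + 1) → A)))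

lemma rels_le (F : Fin (n + 1) → A) (hF : F ∈ rels (p := p) (q := q) n) :
    Φ rU rV n F = 0 := by
  induction hF using Submodule.span_induction with
  | mem F h =>
    rcases h with ⟨i, rfl⟩ | ⟨i, rfl⟩
    · have h1 : n - (i : ℕ) = n - ((i : ℕ) + 1) + 1 := by omega
      simp only [map_sub, Φ_single, AlgHom.commutes, hrUx, hrVx, Fin.val_castSucc, Fin.val_succ]
      refine Prod.ext ?_ ?_
      · change _ - _ = 0; dsimp only; rw [h1, pow_succ]; ring
      · change _ - _ = 0; dsimp only; rw [pow_succ, ← xy (π := p)]; ring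
    · have h1 : n - (i : ℕ) = n - ((i : ℕ) + 1) + 1 := by omega
      simp only [map_sub, Φ_single, AlgHom.commutes, hrUy, hrVy, Fin.val_castSucc, Fin.val_succ]
      refine Prod.ext ?_ ?_
      · change _ - _ = 0; dsimp only; rw [h1, pow_succ, ← xy (π := q)]; ring
      · change _ - _ = 0; dsimp only; rw [pow_succ]; ring
  | zero => simp
  | add F G _ _ hF hG => simp [hF, hG]
  | smul a F _ hF => rw [Φ_smul, hF]; simp

omit hrUx hrUy hrVx hrVy in
lemma decomp (F : Fin (n + 1) → A) :
    F ∈ LinearMap.range (σ (p := p) (q := q) n) ⊔ (rels (p := p) (q := q) n).restrictScalars R := by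
  set M := LinearMap.range (σ (p := p) (q := q) n) ⊔ (rels (p := p) (q := q) n).restrictScalars R
  have hσ : ∀ (i : Fin (n + 1)) (k : ℤ), idx n (k + n - (i : ℕ)) = i →
      Pi.single i (δ (p * q) k) ∈ M := fun i k h => by
    refine Submodule.mem_sup_left ⟨Finsupp.single (k + n - (i : ℕ)) 1, ?_⟩
    rw [σ, Finsupp.linearCombination_single, one_smul, h]
    congr 2; omega
  have hpos : ∀ (j : ℕ) (i : Fin (n + 1)) (k : ℤ), (i : ℕ) = j → 0 ≤ k →
      Pi.single i (δ (p * q) k) ∈ M := by
    intro j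
    induction j with
    | zero => exact fun i k hi hk => hσ i k (Fin.ext (by simp [idx]; omega))
    | succ j ih =>
      intro i k hi hk
      rcases eq_or_lt_of_le hk with rfl | hk'
      · exact hσ i 0 (Fin.ext (by simp [idx]; omega))
      · let i' : Fin n := ⟨j, by omega⟩
        have hi' : i = Fin.succ i' := Fin.ext (by simp [i', hi])
        have key : Pi.single i (δ (p * q) k) = p • (Pi.single (Fin.castSucc i') (δ (p * q) (k - 1)) : Fin (n + 1) → A) -
            δ (p * q) (k - 1) • ((Pi.single (Fin.castSucc i') (algebraMap R A p) -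
              Pi.single (Fin.succ i') (PolyNodeRing.x R (p * q))) : Fin (n + 1) → A) := by
          have hk1 : δ (p * q) k = δ (p * q) (k - 1) * PolyNodeRing.x R (p * q) := by
            rw [mul_comm _ (PolyNodeRing.x R (p * q)), x_mul_δ, w_of_nonneg (Int.sign_nonneg_iff.2 (by omega)), one_smul,
              sub_add_cancel]
          rw [hi', smul_sub, ← Pi.single_smul, ← Pi.single_smul, ← Pi.single_smul,
            smul_eq_mul, smul_eq_mul, hk1, smul_eq, mul_comm (δ _ _) (algebraMap _ _ _)]
          abel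
        rw [key]
        exact sub_mem (Submodule.smul_mem _ _ (ih _ _ (by simp [i']) (by omega)))
          (Submodule.mem_sup_right ((Submodule.restrictScalars_mem R _ _).2
            (Submodule.smul_mem (rels (p := p) (q := q) n) _
              (Submodule.subset_span (Or.inl ⟨i', rfl⟩)))))
  have hneg : ∀ (j : ℕ) (i : Fin (n + 1)) (k : ℤ), (i : ℕ) + j = n → k ≤ 0 →
      Pi.single i (δ (p * q) k) ∈ M := by
    intro j
    induction j with
    | zero => exact fun i k hi hk => hσ i k (Fin.ext (by simp [idx]; omega))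
    | succ j ih =>
      intro i k hi hk
      rcases eq_or_lt_of_le hk with rfl | hk'
      · exact hσ i 0 (Fin.ext (by simp [idx]; omega))
      · let i' : Fin n := ⟨i, by omega⟩
        have hi' : i = Fin.castSucc i' := Fin.ext rfl
        have key : Pi.single i (δ (p * q) k) = q • (Pi.single (Fin.succ i') (δ (p * q) (k + 1)) : Fin (n + 1) → A) +
            δ (p * q) (k + 1) • ((Pi.single (Fin.castSucc i') (PolyNodeRing.y R (p * q)) -
              Pi.single (Fin.succ i') (algebraMap R A q)) : Fin (n + 1) → A) := by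
          have hk1 : δ (p * q) k = δ (p * q) (k + 1) * PolyNodeRing.y R (p * q) := by
            rw [mul_comm _ (PolyNodeRing.y R (p * q)), y_mul_δ, w_of_nonneg (Int.sign_nonneg_iff.2 (by omega)), one_smul,
              add_sub_cancel_right]
          rw [hi', smul_sub, ← Pi.single_smul, ← Pi.single_smul, ← Pi.single_smul,
            smul_eq_mul, smul_eq_mul, hk1, smul_eq, mul_comm (δ _ _) (algebraMap _ _ _)]
          abel
        rw [key]
        exact add_mem (Submodule.smul_mem _ _ (ih _ _ (by simp [i']; omega) (by omega)))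
          (Submodule.mem_sup_right ((Submodule.restrictScalars_mem R _ _).2
            (Submodule.smul_mem (rels (p := p) (q := q) n) _
              (Submodule.subset_span (Or.inr ⟨i', rfl⟩)))))
  have hall : ∀ i k, Pi.single i (δ (p * q) k) ∈ M := fun i k => by
    rcases le_total 0 k with h | h
    · exact hpos _ i k rfl h
    · exact hneg (n - (i:ℕ)) i k (by omega) h
  rw [← Finset.univ_sum_single F]
  refine sum_mem fun i _ => ?_
  obtain ⟨c, hc⟩ := Δ_surj (F i)
  rw [← hc]
  clear hc
  induction c using Finsupp.induction_linear with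
  | zero => simp
  | add c d hc hd => rw [map_add, Pi.single_add]; exact add_mem hc hd
  | single k r => rw [Δ_single, Pi.single_smul]; exact Submodule.smul_mem _ _ (hall i k)

lemma range_and_ker (gU : PolyNodeRing R q →ₐ[R] LaurentPolynomial R)
    (hgUs : gU (PolyNodeRing.x R q) = LaurentPolynomial.T 1)
    (hgUy : gU (PolyNodeRing.y R q) = LaurentPolynomial.C q * LaurentPolynomial.T (-1))
    (gV : PolyNodeRing R p →ₐ[R] LaurentPolynomial R)
    (hgVt : gV (PolyNodeRing.x R p) = LaurentPolynomial.T (-1))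
    (hgVx : gV (PolyNodeRing.y R p) = LaurentPolynomial.C p * LaurentPolynomial.T 1) :
    Set.range (fun F => Φ rU rV n F) =
        {gf | gU gf.1 = LaurentPolynomial.T (n : ℤ) * gV gf.2} ∧
      {F | Φ rU rV n F = 0} = (rels (p := p) (q := q) n : Set (Fin (n + 1) → A)) := by
  have hdec : ∀ F, ∃ c, ∃ G ∈ rels (p := p) (q := q) n, σ n c + G = F := fun F => by
    obtain ⟨_, ⟨c, rfl⟩, G, hG, h⟩ := Submodule.mem_sup.1 (decomp n F)
    exact ⟨c, G, hG, h⟩
  constructor
  · ext gf
    constructor
    · rintro ⟨F, rfl⟩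
      obtain ⟨c, G, hG, rfl⟩ := hdec F
      simp only [Set.mem_setOf_eq, map_add, Φ_σ rU hrUx hrUy rV hrVx hrVy,
        rels_le rU hrUx hrUy rV hrVx hrVy n G hG, add_zero]
      exact Ψ_mem gU hgUs hgUy gV hgVt hgVx c
    · intro h
      obtain ⟨c, hc⟩ := Ψ_surj gU hgUs hgUy gV hgVt hgVx (by omega : (-1:ℤ) ≤ n) gf.1 gf.2 h
      exact ⟨σ n c, by simp only [Φ_σ rU hrUx hrUy rV hrVx hrVy, hc]⟩
  · ext F
    constructor
    · intro h
      obtain ⟨c, G, hG, rfl⟩ := hdec F
      simp only [Set.mem_setOf_eq, map_add, Φ_σ rU hrUx hrUy rV hrVx hrVy,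
        rels_le rU hrUx hrUy rV hrVx hrVy n G hG, add_zero] at h
      have : c = 0 := Ψ_inj (by omega : (-1:ℤ) ≤ n) (h.trans (map_zero _).symm)
      simpa [this] using hG
    · exact rels_le rU hrUx hrUy rV hrVx hrVy n F

end

end Groth.Agent.SpinNodeLib
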