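import Groth.Prelude.Def_W4c5spincurvestfNode
import Mathlib

universe u
namespace Groth.Agent.SpinNodeLib
open SpinCurv

variable {R : Type u} [CommRing R] {π : R}

/-- the exponent vector (a,b) -/
noncomputable def ex (a b : ℕ) : Fin 2 →₀ ℕ := Finsupp.single 0 a + Finsupp.single 1 b

@[simp] lemma ex_zero (a b : ℕ) : ex a b 0 = a := by simp [ex]
@[simp] lemma ex_one (a b : ℕ) : ex a b 1 = b := by simp [ex]
lemma ex_eta (d : Fin 2 →₀ ℕ) : ex (d 0) (d 1) = d := by
  ext i; fin_cases i <;> simp

variable (π) in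
noncomputable def w (k : ℤ) : R := π ^ (-k).toNat

lemma w_of_nonneg {k : ℤ} (h : 0 ≤ k) : w π k = 1 := by
  simp [w, Int.toNat_of_nonpos (by omega : -k ≤ 0)]

variable (π) in
/-- normal-form basis element of degree `k` -/
noncomputable def δ (k : ℤ) : PolyNodeRing R π :=
  PolyNodeRing.x R π ^ k.toNat * PolyNodeRing.y R π ^ (-k).toNat

lemma xy : PolyNodeRing.x R π * PolyNodeRing.y R π = algebraMap R _ π := by
  change Ideal.Quotient.mk _ _ * Ideal.Quotient.mk _ _ = Ideal.Quotient.mk _ (MvPolynomial.C π)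
  rw [← map_mul]
  exact Ideal.Quotient.eq.2 (Ideal.subset_span rfl)

lemma smul_eq (r : R) (a : PolyNodeRing R π) : r • a = algebraMap R _ r * a :=
  Algebra.smul_def r a

lemma x_mul_δ (k : ℤ) :
    PolyNodeRing.x R π * δ π k = w π k.sign • δ π (k + 1) := by
  rcases le_or_gt 0 k with h | h
  · have h1 : (k + 1).toNat = k.toNat + 1 := by omega
    have h2 : (-(k+1)).toNat = 0 := by omega
    have h3 : (-k).toNat = 0 := by omega
    have h4 : 0 ≤ k.sign := Int.sign_nonneg_iff.2 h
    rw [w_of_nonneg h4, one_smul, δ, δ, h1, h2, h3, pow_succ]; ring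
  · have h1 : (k + 1).toNat = 0 := by omega
    have h2 : (-k).toNat = (-(k+1)).toNat + 1 := by omega
    have h3 : k.toNat = 0 := by omega
    rw [δ, δ, h1, h2, h3, pow_succ, Int.sign_eq_neg_one_of_neg h, smul_eq]
    simp only [w]
    rw [show (- -1 : ℤ).toNat = 1 from rfl, pow_one, ← xy]; ring

lemma y_mul_δ (k : ℤ) :
    PolyNodeRing.y R π * δ π k = w π (-k).sign • δ π (k - 1) := by
  rcases le_or_gt k 0 with h | h
  · have h1 : (k - 1).toNat = 0 := by omega
    have h2 : (-(k-1)).toNat = (-k).toNat + 1 := by omega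
    have h3 : k.toNat = 0 := by omega
    have h4 : 0 ≤ (-k).sign := Int.sign_nonneg_iff.2 (by omega)
    rw [w_of_nonneg h4, one_smul, δ, δ, h1, h2, h3, pow_succ]; ring
  · have h1 : (-k).toNat = 0 := by omega
    have h2 : k.toNat = (k-1).toNat + 1 := by omega
    have h3 : (-(k-1)).toNat = 0 := by omega
    rw [δ, δ, h1, h2, h3, pow_succ, Int.sign_eq_neg_one_of_neg (by omega : -k < 0),
      smul_eq]
    simp only [w]
    rw [show (- -1 : ℤ).toNat = 1 from rfl, pow_one, ← xy]; ring

variable (π) in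
noncomputable def Δ : (ℤ →₀ R) →ₗ[R] PolyNodeRing R π := Finsupp.linearCombination R (δ π)

@[simp] lemma Δ_single (k : ℤ) (r : R) : Δ π (Finsupp.single k r) = r • δ π k := by
  simp [Δ]

lemma Δ_surj : Function.Surjective (Δ π) := by
  intro a
  obtain ⟨P, rfl⟩ := Ideal.Quotient.mk_surjective a
  induction P using MvPolynomial.induction_on with
  | C r => exact ⟨Finsupp.single 0 r, by simp [δ, smul_eq]; rfl⟩
  | add P Q hP hQ =>
    obtain ⟨c, hc⟩ := hP; obtain ⟨d, hd⟩ := hQ
    exact ⟨c + d, by rw [map_add, hc, hd, map_add]⟩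
  | mul_X P i hP =>
    obtain ⟨c, hc⟩ := hP
    rw [map_mul, ← hc]
    change Δ π c * _ ∈ LinearMap.range (Δ π)
    clear hc
    induction c using Finsupp.induction_linear with
    | zero => simp
    | add c d hc hd => rw [map_add, add_mul]; exact add_mem hc hd
    | single k r =>
      rw [Δ_single, smul_mul_assoc]
      refine Submodule.smul_mem _ _ ?_
      rw [mul_comm (δ π k)]
      fin_cases i
      · exact ⟨Finsupp.single (k+1) _, (Δ_single _ _).trans (x_mul_δ k).symm⟩
      · exact ⟨Finsupp.single (k-1) _, (Δ_single _ _).trans (y_mul_δ k).symm⟩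

variable (π) in
noncomputable def N : MvPolynomial (Fin 2) R →ₗ[R] (ℤ →₀ R) :=
  (MvPolynomial.basisMonomials (Fin 2) R).constr R
    fun m => Finsupp.single ((m 0 : ℤ) - m 1) (π ^ min (m 0) (m 1))

lemma N_monomial (m : Fin 2 →₀ ℕ) (r : R) :
    N π (MvPolynomial.monomial m r) = Finsupp.single ((m 0 : ℤ) - m 1) (r * π ^ min (m 0) (m 1)) := by
  have : MvPolynomial.monomial m r = r • MvPolynomial.basisMonomials (Fin 2) R m := by
    simp [MvPolynomial.smul_monomial]
  rw [this, map_smul, N, Module.Basis.constr_basis, Finsupp.smul_single, smul_eq_mul]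

lemma N_rel (P : MvPolynomial (Fin 2) R) :
    N π (P * (MvPolynomial.X 0 * MvPolynomial.X 1 - MvPolynomial.C π)) = 0 := by
  induction P using MvPolynomial.induction_on' with
  | monomial m r =>
    have h : MvPolynomial.monomial m r * (MvPolynomial.X 0 * MvPolynomial.X 1 - MvPolynomial.C π)
        = MvPolynomial.monomial (m + ex 1 1) r - MvPolynomial.monomial m (r * π) := by
      rw [mul_sub, MvPolynomial.X, MvPolynomial.X, MvPolynomial.monomial_mul,
        MvPolynomial.monomial_mul, mul_comm _ (MvPolynomial.C π), MvPolynomial.C_mul_monomial]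
      simp [ex, mul_comm]
    rw [h, map_sub, N_monomial, N_monomial, sub_eq_zero]
    simp only [Finsupp.add_apply, ex_zero, ex_one, Nat.cast_add, Nat.cast_one,
      Nat.succ_min_succ, min_add_add_right, pow_succ]
    congr 1 <;> ring
  | add P Q hP hQ => rw [add_mul, map_add, hP, hQ, add_zero]

lemma N_lift_δ (k : ℤ) :
    N π (MvPolynomial.X 0 ^ k.toNat * MvPolynomial.X 1 ^ (-k).toNat) = Finsupp.single k 1 := by
  rw [MvPolynomial.X_pow_eq_monomial, MvPolynomial.X_pow_eq_monomial, MvPolynomial.monomial_mul,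
    N_monomial]
  change Finsupp.single ((ex k.toNat (-k).toNat 0 : ℤ) - ex k.toNat (-k).toNat 1) _ = _
  have h1 : min k.toNat (-k).toNat = 0 := by omega
  simp only [Finsupp.add_apply]
  rw [show Finsupp.single (0 : Fin 2) k.toNat 0 + Finsupp.single (1 : Fin 2) (-k).toNat 0 = k.toNat by simp,
    show Finsupp.single (0 : Fin 2) k.toNat 1 + Finsupp.single (1 : Fin 2) (-k).toNat 1 = (-k).toNat by simp,
    h1, ex_zero, ex_one]
  congr 1
  · omega
  · simp

lemma Δ_inj : Function.Injective (Δ π) := by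
  let Ψ : (ℤ →₀ R) →ₗ[R] MvPolynomial (Fin 2) R :=
    Finsupp.linearCombination R fun k => MvPolynomial.X 0 ^ k.toNat * MvPolynomial.X 1 ^ (-k).toNat
  have h1 : ∀ c, N π (Ψ c) = c := by
    intro c
    induction c using Finsupp.induction_linear with
    | zero => simp
    | add c d hc hd => simp [hc, hd]
    | single k r => simp [Ψ, N_lift_δ]
  have h2 : ∀ c, Ideal.Quotient.mk _ (Ψ c) = Δ π c := by
    intro c
    induction c using Finsupp.induction_linear with
    | zero => simp
    | add c d hc hd => simp [hc, hd]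
    | single k r =>
      rw [Δ_single]
      simp only [Ψ, Finsupp.linearCombination_single]
      rfl
  rw [injective_iff_map_eq_zero]
  intro c hc
  rw [← h2, Ideal.Quotient.eq_zero_iff_mem, Ideal.mem_span_singleton'] at hc
  obtain ⟨P, hP⟩ := hc
  rw [← h1 c, ← hP, N_rel]

variable (π) in
noncomputable def basis : Module.Basis ℤ R (PolyNodeRing R π) :=
  .ofRepr (LinearEquiv.ofBijective (Δ π) ⟨Δ_inj, Δ_surj⟩).symm

lemma basis_apply (k : ℤ) : basis π k = δ π k := by
  simp [basis, Module.Basis.coe_ofRepr]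

/-! ### charts -/
variable {p q : R}

open LaurentPolynomial in
lemma map_δ_U (gU : PolyNodeRing R q →ₐ[R] LaurentPolynomial R)
    (hx : gU (PolyNodeRing.x R q) = T 1) (hy : gU (PolyNodeRing.y R q) = C q * T (-1)) (k : ℤ) :
    gU (δ q k) = AddMonoidAlgebra.single k (w q k) := by
  rw [δ, map_mul, map_pow, map_pow, hx, hy, mul_pow, T_pow, T_pow, ← map_pow,
    mul_left_comm, ← T_add, ← single_eq_C_mul_T]
  simp only [w]
  congr 1
  omega

open LaurentPolynomial in
lemma map_δ_V (gV : PolyNodeRing R p →ₐ[R] LaurentPolynomial R)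
    (hx : gV (PolyNodeRing.x R p) = T (-1)) (hy : gV (PolyNodeRing.y R p) = C p * T 1) (k : ℤ) :
    gV (δ p k) = AddMonoidAlgebra.single (-k) (w p k) := by
  rw [δ, map_mul, map_pow, map_pow, hx, hy, mul_pow, T_pow, T_pow, ← map_pow,
    mul_left_comm, ← T_add, ← single_eq_C_mul_T]
  simp only [w]
  congr 1
  omega

section
variable (p q) (n : ℤ)

/-- the normal form of a section of `O(n)` -/
noncomputable def Ψ : (ℤ →₀ R) →ₗ[R] PolyNodeRing R q × PolyNodeRing R p :=
  Finsupp.linearCombination R fun m => (w p (n - m) • δ q m, w q m • δ p (n - m))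

end

lemma Ψ_coord (n : ℤ) (c : ℤ →₀ R) (m : ℤ) :
    (basis q).repr (Ψ p q n c).1 m = w p (n - m) * c m ∧
    (basis p).repr (Ψ p q n c).2 (n - m) = w q m * c m := by
  classical
  induction c using Finsupp.induction_linear with
  | zero => simp
  | add c d hc hd => simp [hc.1, hc.2, hd.1, hd.2, mul_add]
  | single k r =>
    simp only [Ψ, Finsupp.linearCombination_single, Prod.smul_fst, Prod.smul_snd, map_smul,
      ← basis_apply, Module.Basis.repr_self, Finsupp.smul_single, smul_eq_mul, mul_one]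
    by_cases hk : k = m
    · subst hk; simp [mul_comm]
    · simp [Finsupp.single_eq_of_ne' hk, Finsupp.single_eq_of_ne' (by omega : n - k ≠ n - m)]

lemma repr_Δ (a : ℤ →₀ R) : (basis π).repr (Δ π a) = a :=
  (LinearEquiv.ofBijective (Δ π) ⟨Δ_inj, Δ_surj⟩).symm_apply_apply a

section
variable {n : ℤ} (gU : PolyNodeRing R q →ₐ[R] LaurentPolynomial R)
    (hgUs : gU (PolyNodeRing.x R q) = LaurentPolynomial.T 1)
    (hgUy : gU (PolyNodeRing.y R q) = LaurentPolynomial.C q * LaurentPolynomial.T (-1))
    (gV : PolyNodeRing R p →ₐ[R] LaurentPolynomial R)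
    (hgVt : gV (PolyNodeRing.x R p) = LaurentPolynomial.T (-1))
    (hgVx : gV (PolyNodeRing.y R p) = LaurentPolynomial.C p * LaurentPolynomial.T 1)
include hgUs hgUy hgVt hgVx

lemma Ψ_mem (c : ℤ →₀ R) :
    gU (Ψ p q n c).1 = LaurentPolynomial.T n * gV (Ψ p q n c).2 := by
  induction c using Finsupp.induction_linear with
  | zero => simp
  | add c d hc hd => simp [hc, hd, mul_add]
  | single m r =>
    simp only [Ψ, Finsupp.linearCombination_single, Prod.smul_fst, Prod.smul_snd, map_smul,
      map_δ_U gU hgUs hgUy, map_δ_V gV hgVt hgVx, LaurentPolynomial.T, mul_smul_comm,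
      AddMonoidAlgebra.single_mul_single, one_mul, AddMonoidAlgebra.smul_single, smul_eq_mul]
    congr 1
    · omega
    · ring

lemma coeff_eq (a b : ℤ →₀ R)
    (h : gU (Δ q a) = LaurentPolynomial.T n * gV (Δ p b)) (m : ℤ) :
    w q m * a m = w p (n - m) * b (n - m) := by
  have hA : (gU (Δ q a)).coeff m = w q m * a m := by
    clear h
    induction a using Finsupp.induction_linear with
    | zero => simp
    | add c d hc hd => simp [hc, hd, mul_add]
    | single k r =>
      rw [Δ_single, map_smul, map_δ_U gU hgUs hgUy, AddMonoidAlgebra.smul_single, smul_eq_mul,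
        AddMonoidAlgebra.coeff_single]
      by_cases hk : k = m
      · subst hk; simp [mul_comm]
      · simp [Finsupp.single_eq_of_ne' hk]
  have hB : (LaurentPolynomial.T n * gV (Δ p b)).coeff m = w p (n - m) * b (n - m) := by
    clear h
    induction b using Finsupp.induction_linear with
    | zero => simp
    | add c d hc hd =>
      simp only [map_add, mul_add, AddMonoidAlgebra.coeff_add, Finsupp.add_apply, hc, hd]
    | single k r =>
      rw [Δ_single, map_smul, map_δ_V gV hgVt hgVx, AddMonoidAlgebra.smul_single, smul_eq_mul,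
        LaurentPolynomial.T, AddMonoidAlgebra.single_mul_single, one_mul,
        AddMonoidAlgebra.coeff_single]
      by_cases hk : k = n - m
      · subst hk; simp [mul_comm]
      · have : n + -k ≠ m := by omega
        simp [Finsupp.single_eq_of_ne' hk, Finsupp.single_eq_of_ne' this]
  rw [← hA, ← hB, h]

lemma Ψ_surj (hn : -1 ≤ n) (g : PolyNodeRing R q) (f : PolyNodeRing R p)
    (h : gU g = LaurentPolynomial.T n * gV f) : ∃ c, Ψ p q n c = (g, f) := by
  classical
  obtain ⟨a, rfl⟩ := Δ_surj g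
  obtain ⟨b, rfl⟩ := Δ_surj f
  have hab := coeff_eq gU hgUs hgUy gV hgVt hgVx a b h
  let b' : ℤ →₀ R := Finsupp.equivMapDomain (Equiv.subLeft n) b
  let c : ℤ →₀ R := a.filter (fun m => m ≤ n) + b'.filter (fun m => ¬ m ≤ n)
  have hc1 : ∀ m, w p (n - m) * c m = a m := by
    intro m
    by_cases hm : m ≤ n
    · simp [c, hm, w_of_nonneg (by omega : 0 ≤ n - m)]
    · have := hab m
      rw [w_of_nonneg (by omega : (0:ℤ) ≤ m), one_mul] at this
      simp only [c, b', Finsupp.add_apply, Finsupp.filter_apply, hm, not_false_eq_true, if_true,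
        if_false, zero_add, Finsupp.equivMapDomain_apply]
      rw [this]; simp [sub_eq_neg_add]
  have hc2 : ∀ m, w q m * c m = b (n - m) := by
    intro m
    by_cases hm : m ≤ n
    · have := hab m
      rw [w_of_nonneg (by omega : 0 ≤ n - m), one_mul] at this
      simp [c, hm, this]
    · simp only [c, b', Finsupp.add_apply, Finsupp.filter_apply, hm, not_false_eq_true, if_true,
        if_false, zero_add, Finsupp.equivMapDomain_apply,
        w_of_nonneg (by omega : (0:ℤ) ≤ m), one_mul]
      simp [sub_eq_neg_add]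
  refine ⟨c, Prod.ext ?_ ?_⟩
  · apply (basis q).repr.injective
    ext m
    rw [(Ψ_coord (p := p) (q := q) n c m).1, repr_Δ, hc1]
  · apply (basis p).repr.injective
    ext j
    obtain ⟨m, rfl⟩ : ∃ m, j = n - m := ⟨n - j, by omega⟩
    rw [(Ψ_coord (p := p) (q := q) n c m).2, repr_Δ, hc2]

end

lemma Ψ_inj {n : ℤ} (hn : -1 ≤ n) : Function.Injective (Ψ p q n) := by
  rw [injective_iff_map_eq_zero]
  intro c hc
  ext m
  obtain ⟨h1, h2⟩ := Ψ_coord (p := p) (q := q) n c m
  rw [hc] at h1 h2
  by_cases hm : m ≤ n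
  · simpa [w_of_nonneg (by omega : 0 ≤ n - m)] using h1.symm
  · simpa [w_of_nonneg (by omega : (0:ℤ) ≤ m)] using h2.symm

end Groth.Agent.SpinNodeLib
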